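import Groth.Agent.S0406
import Groth.Agent.Lib.FlatDepth.FibreStalk
import Groth.Agent.Lib.ModM1.Stalk
import Mathlib

/-!
# Reducedness over valuation rings
-/

set_option autoImplicit false
set_option linter.style.haveILetI false
set_option backward.isDefEq.respectTransparency false
set_option backward.isDefEq.respectTransparency.types false

universe u

open CategoryTheory AlgebraicGeometry IsLocalRing

namespace Groth.Agent.RedValRing4

/-- In a valuation ring extended ideals consist of single multiples. -/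
theorem exists_mul_of_mem_map {A B : Type u} [CommRing A] [IsDomain A] [ValuationRing A] [CommRing B] [Algebra A B]
    (I : Ideal A) {b : B} (hb : b ∈ I.map (algebraMap A B)) : ∃ c ∈ I, ∃ b' : B, b = algebraMap A B c * b' := by
  have hb' : b ∈ Submodule.span B (algebraMap A B '' (I : Set A)) := hb
  clear hb
  induction hb' using Submodule.span_induction with
  | mem b hb => obtain ⟨c, hc, rfl⟩ := hb; exact ⟨c, hc, 1, (mul_one _).symm⟩
  | zero => exact ⟨0, zero_mem _, 0, by simp⟩
  | smul r b _ hb => obtain ⟨c, hc, b', rfl⟩ := hb; exact ⟨c, hc, r * b', by rw [smul_eq_mul]; ring⟩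
  | add x y _ _ hx hy =>
    obtain ⟨c, hc, x', rfl⟩ := hx
    obtain ⟨d, hd, y', rfl⟩ := hy
    rcases (ValuationRing.iff_dvd_total.1 ‹ValuationRing A›).total c d with ⟨e, rfl⟩ | ⟨e, rfl⟩
    · exact ⟨c, hc, x' + algebraMap A B e * y', by rw [map_mul]; ring⟩
    · exact ⟨d, hd, algebraMap A B e * x' + y', by rw [map_mul]; ring⟩

/-- If the closed fibre is reduced at every prime the nilpotents die near the closed fibre. -/
theorem exists_notMem_mul_nilpotent_eq_zero {A B : Type u} [CommRing A] [IsDomain A] [ValuationRing A] [CommRing B]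
    [Algebra A B] [Algebra.FiniteType A B] (htf : ∀ (c : A) (b : B), c ≠ 0 → algebraMap A B c * b = 0 → b = 0)
    (hm : ∀ b : B, ∀ n : ℕ, b ^ n ∈ (maximalIdeal A).map (algebraMap A B) → b ∈ (maximalIdeal A).map (algebraMap A B))
    (Q : Ideal B) [Q.IsPrime] (hQ : (maximalIdeal A).map (algebraMap A B) ≤ Q) :
    ∃ r : B, r ∉ Q ∧ ∀ a : B, IsNilpotent a → r * a = 0 := by
  let N := nilradical B
  let D := B ⧸ N
  haveI hflat : ∀ (M : Type u) [AddCommGroup M] [Module A M],
      (∀ (c : A) (b : M), c ≠ 0 → c • b = 0 → b = 0) → Module.Flat A M := fun M _ _ h => by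
    rw [Module.Flat.flat_iff_torsion_eq_bot_of_isBezout, eq_bot_iff]
    intro b hb
    obtain ⟨⟨c, hc⟩, hcb⟩ := (Submodule.mem_torsion_iff b).1 hb
    exact h c b (nonZeroDivisors.ne_zero hc) hcb
  haveI : Module.Flat A B := hflat B fun c b hc h => htf c b hc (by rw [← h, Algebra.smul_def])
  haveI : Module.Flat A D := hflat D fun c b hc h => by
    obtain ⟨b, rfl⟩ := Ideal.Quotient.mk_surjective b
    have h' : algebraMap A B c * b ∈ N := by
      rw [← Ideal.Quotient.eq_zero_iff_mem, map_mul, ← h, Algebra.smul_def]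
      rfl
    obtain ⟨n, hn⟩ := mem_nilradical.1 h'
    refine Ideal.Quotient.eq_zero_iff_mem.2 (mem_nilradical.2 ⟨n, htf (c ^ n) _ (pow_ne_zero n hc) ?_⟩)
    rw [map_pow, ← mul_pow, hn]
  haveI : Algebra.FiniteType A D := Algebra.FiniteType.of_surjective (Ideal.Quotient.mkₐ A N) (Ideal.Quotient.mkₐ_surjective A N)
  haveI := Groth.Agent.S0406.result (R := A) (S := B)
  haveI := Groth.Agent.S0406.result (R := A) (S := D)
  have hfg : N.FG := by
    have := Algebra.FinitePresentation.ker_fG_of_surjective (Ideal.Quotient.mkₐ A N) (Ideal.Quotient.mkₐ_surjective A N)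
    simpa [Ideal.mk_ker] using this
  have hle : N ≤ (maximalIdeal A).map (algebraMap A B) • N := by
    intro b hb
    obtain ⟨n, hn⟩ := mem_nilradical.1 hb
    obtain ⟨c, hc, b', rfl⟩ := exists_mul_of_mem_map (maximalIdeal A) (hm b n (by rw [hn]; exact zero_mem _))
    rcases eq_or_ne c 0 with rfl | hc0
    · rw [map_zero, zero_mul]; exact zero_mem _
    · refine Submodule.smul_mem_smul (Ideal.mem_map_of_mem _ hc) (mem_nilradical.2 ⟨n, htf (c ^ n) _ (pow_ne_zero n hc0) ?_⟩)
      rw [map_pow, ← mul_pow, hn]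
  obtain ⟨r, hr, hrN⟩ := Submodule.exists_sub_one_mem_and_smul_eq_zero_of_fg_of_le_smul _ N hfg hle
  refine ⟨r, fun h => ‹Q.IsPrime›.ne_top ((Ideal.eq_top_iff_one _).2 ?_), fun a ha => hrN a (mem_nilradical.2 ha)⟩
  simpa using Q.sub_mem h (hQ hr)

/-- The same modulo a prime of the base. -/
theorem exists_notMem_mul_mem {A B : Type u} [CommRing A] [IsDomain A] [ValuationRing A] [CommRing B]
    [Algebra A B] [Algebra.FiniteType A B] [Module.Flat A B]
    (hm : ∀ b : B, ∀ n : ℕ, b ^ n ∈ (maximalIdeal A).map (algebraMap A B) → b ∈ (maximalIdeal A).map (algebraMap A B))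
    (p : Ideal A) [p.IsPrime] (Q : Ideal B) [Q.IsPrime] (hQ : (maximalIdeal A).map (algebraMap A B) ≤ Q) :
    ∃ r : B, r ∉ Q ∧ ∀ (a : B) (n : ℕ), a ^ n ∈ p.map (algebraMap A B) → r * a ∈ p.map (algebraMap A B) := by
  set P := p.map (algebraMap A B) with hP
  have htf : ∀ (c : A) (b : B), c ∉ p → algebraMap A B c * b ∈ P → b ∈ P := by
    intro c b hc h
    obtain ⟨π, hπ, b', hb'⟩ := exists_mul_of_mem_map p h
    rcases (ValuationRing.iff_dvd_total.1 ‹ValuationRing A›).total c π with ⟨d, rfl⟩ | ⟨d, rfl⟩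
    · have hd : d ∈ p := ((Ideal.IsPrime.mem_or_mem ‹p.IsPrime› hπ).resolve_left hc)
      have hc0 : c ≠ 0 := fun e => hc (e ▸ zero_mem p)
      have : b - algebraMap A B d * b' = 0 := by
        by_contra hne
        haveI : Module.IsTorsionFree A B := inferInstance
        refine hne ((smul_eq_zero (R := A) (M := B)).1 ?_ |>.resolve_left hc0)
        rw [Algebra.smul_def, mul_sub, hb', map_mul, mul_assoc, sub_self]
      rw [sub_eq_zero] at this
      rw [this]
      exact P.mul_mem_right _ (Ideal.mem_map_of_mem _ hd)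
    · exact absurd (p.mul_mem_right d hπ) hc
  haveI : ValuationRing (A ⧸ p) := Function.Surjective.valuationRing (Ideal.Quotient.mk p) Ideal.Quotient.mk_surjective
  let f : A ⧸ p →+* B ⧸ P := Ideal.quotientMap P (algebraMap A B) Ideal.le_comap_map
  letI : Algebra (A ⧸ p) (B ⧸ P) := f.toAlgebra
  haveI : IsScalarTower A (A ⧸ p) (B ⧸ P) := IsScalarTower.of_algebraMap_eq fun _ => rfl
  haveI : Algebra.FiniteType (A ⧸ p) (B ⧸ P) := by
    haveI : Algebra.FiniteType A (B ⧸ P) :=
      Algebra.FiniteType.of_surjective (Ideal.Quotient.mkₐ A P) (Ideal.Quotient.mkₐ_surjective A P)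
    exact Algebra.FiniteType.of_restrictScalars_finiteType A (A ⧸ p) (B ⧸ P)
  have hmax : maximalIdeal (A ⧸ p) = (maximalIdeal A).map (Ideal.Quotient.mk p) :=
    (map_maximalIdeal_of_surjective (Ideal.Quotient.mk p) Ideal.Quotient.mk_surjective).symm
  have hmaxB : (maximalIdeal (A ⧸ p)).map f = ((maximalIdeal A).map (algebraMap A B)).map (Ideal.Quotient.mk P) := by
    rw [hmax, Ideal.map_map, Ideal.map_map, Ideal.quotientMap_comp_mk]
  have hPQ : P ≤ (maximalIdeal A).map (algebraMap A B) := Ideal.map_mono (le_maximalIdeal (Ideal.IsPrime.ne_top ‹_›))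
  haveI : (Q.map (Ideal.Quotient.mk P)).IsPrime :=
    Ideal.map_isPrime_of_surjective Ideal.Quotient.mk_surjective (by rw [Ideal.mk_ker]; exact hPQ.trans hQ)
  obtain ⟨r, hr, hr0⟩ := exists_notMem_mul_nilpotent_eq_zero (A := A ⧸ p) (B := B ⧸ P) (fun c b hc h => by
    obtain ⟨c, rfl⟩ := Ideal.Quotient.mk_surjective c
    obtain ⟨b, rfl⟩ := Ideal.Quotient.mk_surjective b
    refine Ideal.Quotient.eq_zero_iff_mem.2 (htf c b (fun h' => hc (Ideal.Quotient.eq_zero_iff_mem.2 h')) ?_)
    rw [← Ideal.Quotient.eq_zero_iff_mem, map_mul]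
    exact h) (fun b n h => by
    obtain ⟨b, rfl⟩ := Ideal.Quotient.mk_surjective b
    change _ ∈ (maximalIdeal (A ⧸ p)).map f at h ⊢
    rw [hmaxB, ← map_pow, ← Ideal.mem_comap, Ideal.comap_map_of_surjective _ Ideal.Quotient.mk_surjective,
      ← RingHom.ker, Ideal.mk_ker, sup_eq_left.2 hPQ] at h
    rw [hmaxB]
    exact Ideal.mem_map_of_mem _ (hm b n h)) (Q.map (Ideal.Quotient.mk P)) (by
      show (maximalIdeal (A ⧸ p)).map f ≤ _
      rw [hmaxB]; exact Ideal.map_mono hQ)
  obtain ⟨r, rfl⟩ := Ideal.Quotient.mk_surjective r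
  refine ⟨r, fun h => hr (Ideal.mem_map_of_mem _ h), fun a n ha => ?_⟩
  rw [← Ideal.Quotient.eq_zero_iff_mem, map_mul]
  exact hr0 _ ⟨n, by rw [← map_pow, Ideal.Quotient.eq_zero_iff_mem.2 ha]⟩

end Groth.Agent.RedValRing4
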