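import Groth.Agent.Lib.RedValRing4.Basic

/-!
# Proper flat schemes over valuation rings with reduced special fibre
-/

set_option autoImplicit false
set_option linter.style.haveILetI false
set_option backward.isDefEq.respectTransparency false
set_option backward.isDefEq.respectTransparency.types false

universe u

open CategoryTheory AlgebraicGeometry IsLocalRing

namespace Groth.Agent.RedValRing4

variable {R : Type u} [CommRing R] [IsDomain R] [ValuationRing R] {X : Scheme.{u}}
  (f : X ⟶ Spec (CommRingCat.of R)) [IsProper f] [Flat f]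

/-- Every point specialises to the closed fibre. -/
theorem exists_specializes_closed (x : X) : ∃ x₀, x ⤳ x₀ ∧ f x₀ = closedPoint R := by
  have h1 : IsClosed (f '' closure {x}) := f.isClosedMap _ isClosed_closure
  have h2 : f x ⤳ (closedPoint R : PrimeSpectrum R) := by
    rw [← PrimeSpectrum.le_iff_specializes]
    exact le_maximalIdeal (PrimeSpectrum.isPrime _).ne_top
  obtain ⟨x₀, hx₀, he⟩ := h2.mem_closed h1 ⟨x, subset_closure rfl, rfl⟩
  exact ⟨x₀, specializes_iff_mem_closure.2 hx₀, he⟩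

theorem isReduced_stalks (hred : IsReduced (f.fiber (closedPoint R))) (x : X) :
    _root_.IsReduced (X.presheaf.stalk x) ∧ _root_.IsReduced (CInt.fiberStalk f x) := by
  obtain ⟨x₀, hxx₀, hx₀⟩ := exists_specializes_closed f x
  obtain ⟨U, hU, hx₀U, -⟩ := exists_isAffineOpen_mem_and_subset (x := x₀) (U := ⊤) trivial
  have hxU : x ∈ U := hxx₀.mem_open U.isOpen hx₀U
  have hV : IsAffineOpen (⊤ : (Spec (CommRingCat.of R)).Opens) := isAffineOpen_top _
  let A := Γ(Spec (CommRingCat.of R), ⊤)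
  let B := Γ(X, U)
  let eA : R ≃+* A := (Scheme.ΓSpecIso (CommRingCat.of R)).symm.commRingCatIsoToRingEquiv
  haveI : IsDomain A := eA.symm.toMulEquiv.isDomain R
  haveI : ValuationRing A := Function.Surjective.valuationRing eA.toRingHom eA.surjective
  let φ := f.appLE ⊤ U le_top
  letI : Algebra A B := φ.hom.toAlgebra
  haveI : Algebra.FiniteType A B := RingHom.finiteType_algebraMap.1 (f.finiteType_appLE hV hU le_top)
  haveI : Module.Flat A B := RingHom.flat_algebraMap_iff.1 (f.flat_appLE hV hU le_top)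
  -- the closed point
  have hclosed : ∀ z : X, f z = closedPoint R → ∀ hz : (f z) ∈ (⊤ : (Spec (CommRingCat.of R)).Opens),
      (hV.primeIdealOf ⟨f z, hz⟩).asIdeal = maximalIdeal A := by
    intro z hz hz'
    refine IsLocalRing.eq_maximalIdeal ?_
    rw [← PrimeSpectrum.isClosed_singleton_iff_isMaximal]
    have h1 : IsClosed ({f z} : Set (Spec (CommRingCat.of R))) := by
      rw [hz]
      exact (PrimeSpectrum.isClosed_singleton_iff_isMaximal _).2 (maximalIdeal.isMaximal R)
    have h2 := h1.preimage hV.fromSpec.continuous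
    convert! h2
    ext y
    simp only [Set.mem_singleton_iff, Set.mem_preimage]
    exact ⟨fun e => e ▸ hV.fromSpec_primeIdealOf ⟨f z, hz'⟩,
      fun e => hV.fromSpec.injective (e.trans (hV.fromSpec_primeIdealOf ⟨f z, hz'⟩).symm)⟩
  -- stalks of the fibres as localisations
  have hloc : ∀ (z : X) (hz : z ∈ U), ∀ (b : B),
      (X.presheaf.germ U z hz b ∈ (maximalIdeal ((Spec (CommRingCat.of R)).presheaf.stalk (f z))).map (f.stalkMap z).hom ↔
        ∃ t : B, t ∉ (hU.primeIdealOf ⟨z, hz⟩).asIdeal ∧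
          t * b ∈ (hV.primeIdealOf ⟨f z, trivial⟩).asIdeal.map (algebraMap A B)) := by
    intro z hz b
    let := (Spec (CommRingCat.of R)).presheaf.algebra_section_stalk (⟨f z, trivial⟩ : (⊤ : (Spec (CommRingCat.of R)).Opens))
    haveI := hV.isLocalization_stalk ⟨f z, trivial⟩
    let := X.presheaf.algebra_section_stalk (⟨z, hz⟩ : U)
    haveI := hU.isLocalization_stalk ⟨z, hz⟩
    rw [← IsLocalization.AtPrime.map_eq_maximalIdeal (hV.primeIdealOf ⟨f z, trivial⟩).asIdeal, Ideal.map_map]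
    have hcomp : (f.stalkMap z).hom.comp (algebraMap A ((Spec (CommRingCat.of R)).presheaf.stalk (f z))) =
        (algebraMap B (X.presheaf.stalk z)).comp (algebraMap A B) := by
      ext a
      show f.stalkMap z ((Spec (CommRingCat.of R)).presheaf.germ ⊤ (f z) trivial a) = X.presheaf.germ U z hz (φ a)
      rw [Scheme.Hom.germ_stalkMap_apply]
      exact (X.presheaf.germ_res_apply (homOfLE le_top) z hz _).symm
    rw [hcomp, ← Ideal.map_map]
    show algebraMap B (X.presheaf.stalk z) b ∈ _ ↔ _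
    rw [IsLocalization.algebraMap_mem_map_algebraMap_iff (hU.primeIdealOf ⟨z, hz⟩).asIdeal.primeCompl]
    exact ⟨fun ⟨t, ht, h⟩ => ⟨t, ht, h⟩, fun ⟨t, ht, h⟩ => ⟨t, ht, h⟩⟩
  have hfib : ∀ z : X, f z = closedPoint R → _root_.IsReduced (X.presheaf.stalk z ⧸
      (maximalIdeal ((Spec (CommRingCat.of R)).presheaf.stalk (f z))).map (f.stalkMap z).hom) := by
    intro z hz
    haveI : IsReduced (f.fiber (f z)) := by rw [hz]; exact hred
    obtain ⟨e⟩ := FlatDepth.nonempty_fiberStalkEquiv f z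
    haveI : _root_.IsReduced (CInt.fiberStalk f z) := inferInstanceAs (_root_.IsReduced ((f.fiber (f z)).presheaf.stalk _))
    exact isReduced_of_injective e.toRingHom e.injective
  have hm : ∀ b : B, ∀ n : ℕ, b ^ n ∈ (maximalIdeal A).map (algebraMap A B) →
      b ∈ (maximalIdeal A).map (algebraMap A B) := by
    intro b n hb
    set P := (maximalIdeal A).map (algebraMap A B)
    by_contra hb'
    have hC : P.colon {b} ≠ ⊤ := fun h => hb' (by
      have := Submodule.mem_colon_singleton.1 ((Ideal.eq_top_iff_one _).1 h)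
      simpa using this)
    obtain ⟨Q₁, hQ₁, hle⟩ := Ideal.exists_le_maximal _ hC
    let z : X := hU.fromSpec ⟨Q₁, hQ₁.isPrime⟩
    have hzU : z ∈ U := by rw [← SetLike.mem_coe, ← hU.range_fromSpec]; exact ⟨_, rfl⟩
    have hzQ : (hU.primeIdealOf ⟨z, hzU⟩).asIdeal = Q₁ := congrArg PrimeSpectrum.asIdeal
      (hU.fromSpec.injective (hU.fromSpec_primeIdealOf ⟨z, hzU⟩))
    have hPQ : P ≤ Q₁ := fun c hc => hle (Submodule.mem_colon_singleton.2 (P.mul_mem_right b hc))
    have hq : hV.primeIdealOf ⟨f z, trivial⟩ = PrimeSpectrum.comap (algebraMap A B) ⟨Q₁, hQ₁.isPrime⟩ :=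
      hV.fromSpec.injective ((hV.fromSpec_primeIdealOf _).trans (by
        show f (hU.fromSpec ⟨Q₁, _⟩) = hV.fromSpec (Spec.map φ ⟨Q₁, _⟩)
        rw [← Scheme.Hom.comp_apply, ← IsAffineOpen.SpecMap_appLE_fromSpec f hV hU le_top, Scheme.Hom.comp_apply]))
    have hz : f z = closedPoint R := by
      obtain ⟨z₀, hzz₀, hz₀⟩ := exists_specializes_closed f x₀
      have e : hV.primeIdealOf ⟨f z, trivial⟩ = hV.primeIdealOf ⟨f x₀, trivial⟩ := ?_
      · exact ((hV.fromSpec_primeIdealOf ⟨f z, trivial⟩).symm.trans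
          ((congrArg hV.fromSpec e).trans (hV.fromSpec_primeIdealOf ⟨f x₀, trivial⟩))).trans hx₀
      refine PrimeSpectrum.ext ?_
      rw [hclosed x₀ hx₀]
      exact (IsLocalRing.maximalIdeal.isMaximal A).eq_of_le (PrimeSpectrum.isPrime _).ne_top
        (by rw [hq]; exact Ideal.map_le_iff_le_comap.1 hPQ) |>.symm
    haveI := hfib z hz
    have h0 := (hloc z hzU (b ^ n)).2 ⟨1, (Ideal.ne_top_iff_one _).1 (PrimeSpectrum.isPrime _).ne_top, by
      rw [one_mul, hclosed z hz]; exact hb⟩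
    rw [← Ideal.Quotient.eq_zero_iff_mem, map_pow, map_pow] at h0
    obtain ⟨t, ht, htb⟩ := (hloc z hzU b).1 (Ideal.Quotient.eq_zero_iff_mem.1 (IsNilpotent.eq_zero ⟨n, h0⟩))
    rw [hzQ] at ht
    rw [hclosed z hz] at htb
    exact ht (hle (Submodule.mem_colon_singleton.2 htb))
  set Q := (hU.primeIdealOf ⟨x, hxU⟩).asIdeal with hQ
  set Q₀ := (hU.primeIdealOf ⟨x₀, hx₀U⟩).asIdeal with hQ₀
  have hQle : Q ≤ Q₀ := by
    refine (PrimeSpectrum.le_iff_specializes _ _).2 ?_
    rw [← hU.fromSpec.isEmbedding.isInducing.specializes_iff, hU.fromSpec_primeIdealOf, hU.fromSpec_primeIdealOf]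
    exact hxx₀
  have hQ₀m : (maximalIdeal A).map (algebraMap A B) ≤ Q₀ := by
    have h : hV.primeIdealOf ⟨f x₀, trivial⟩ = PrimeSpectrum.comap (algebraMap A B) (hU.primeIdealOf ⟨x₀, hx₀U⟩) :=
      hV.fromSpec.injective ((hV.fromSpec_primeIdealOf _).trans (by
        show f x₀ = hV.fromSpec (Spec.map φ (hU.primeIdealOf ⟨x₀, hx₀U⟩))
        rw [← Scheme.Hom.comp_apply, IsAffineOpen.SpecMap_appLE_fromSpec f hV hU le_top, Scheme.Hom.comp_apply,
          hU.fromSpec_primeIdealOf]))
    rw [Ideal.map_le_iff_le_comap]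
    have := congrArg PrimeSpectrum.asIdeal h
    rw [hclosed x₀ hx₀] at this
    exact this.le
  haveI hQp : Q.IsPrime := (hU.primeIdealOf ⟨x, hxU⟩).isPrime
  let := X.presheaf.algebra_section_stalk (⟨x, hxU⟩ : U)
  haveI := hU.isLocalization_stalk ⟨x, hxU⟩
  constructor
  · refine ⟨fun α ⟨n, hn⟩ => ?_⟩
    obtain ⟨⟨a, s⟩, hα⟩ := IsLocalization.surj Q.primeCompl α
    obtain ⟨r, hr, hr0⟩ := exists_notMem_mul_mem hm (⊥ : Ideal A) Q₀ hQ₀m
    have hb : algebraMap B (X.presheaf.stalk x) (a ^ (n + 1)) = 0 := by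
      rw [map_pow, ← hα, mul_pow, pow_succ α, hn, zero_mul, zero_mul]
    obtain ⟨t, ht⟩ := (IsLocalization.map_eq_zero_iff Q.primeCompl (X.presheaf.stalk x) _).1 hb
    have h1 : ((t : B) * a) ^ (n + 1) ∈ (⊥ : Ideal A).map (algebraMap A B) := by
      rw [mul_pow, pow_succ (t : B), mul_assoc, ht, mul_zero]; exact zero_mem _
    have h2 := hr0 _ _ h1
    rw [Ideal.map_bot, Ideal.mem_bot] at h2
    refine (IsLocalization.map_units (X.presheaf.stalk x) s).mul_left_eq_zero.1 ?_
    rw [hα, IsLocalization.map_eq_zero_iff Q.primeCompl]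
    exact ⟨⟨r * t, fun h => (hQp.mem_or_mem h).elim (fun h => hr (hQle h)) t.2⟩, by
      rw [← h2]; ring⟩
  · obtain ⟨e⟩ := FlatDepth.nonempty_fiberStalkEquiv f x
    suffices _root_.IsReduced (X.presheaf.stalk x ⧸
        (maximalIdeal ((Spec (CommRingCat.of R)).presheaf.stalk (f x))).map (f.stalkMap x).hom) from
      isReduced_of_injective e.symm.toRingHom e.symm.injective
    refine ⟨fun β ⟨n, hn⟩ => ?_⟩
    obtain ⟨α, rfl⟩ := Ideal.Quotient.mk_surjective β
    obtain ⟨⟨a, s⟩, hα⟩ := IsLocalization.surj Q.primeCompl α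
    set J := (maximalIdeal ((Spec (CommRingCat.of R)).presheaf.stalk (f x))).map (f.stalkMap x).hom
    obtain ⟨r, hr, hr0⟩ := exists_notMem_mul_mem hm (hV.primeIdealOf ⟨f x, trivial⟩).asIdeal Q₀ hQ₀m
    have hb : X.presheaf.germ U x hxU (a ^ (n + 1)) ∈ J := by
      show algebraMap B (X.presheaf.stalk x) (a ^ (n + 1)) ∈ J
      rw [map_pow, ← hα, mul_pow]
      refine J.mul_mem_right _ ?_
      rw [pow_succ]
      refine J.mul_mem_right _ ?_
      rw [← Ideal.Quotient.eq_zero_iff_mem, map_pow, hn]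
    obtain ⟨t, ht, htb⟩ := (hloc x hxU _).1 hb
    have h2 := hr0 (t * a) (n + 1) (by
      rw [mul_pow, pow_succ t, mul_assoc]
      exact Ideal.mul_mem_left _ _ htb)
    have h3 : algebraMap B (X.presheaf.stalk x) a ∈ J :=
      (hloc x hxU a).2 ⟨r * t, fun h => (hQp.mem_or_mem h).elim (fun h => hr (hQle h)) ht, by
        rw [mul_assoc]; exact h2⟩
    rw [← hα, J.mul_unit_mem_iff_mem (IsLocalization.map_units _ s)] at h3
    exact Ideal.Quotient.eq_zero_iff_mem.2 h3

end Groth.Agent.RedValRing4
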